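import Groth.Agent.Lib.EmbDef.RegularAux
import Mathlib.RingTheory.Smooth.Basic
import Mathlib.RingTheory.Artinian.Module
import Mathlib.RingTheory.TensorProduct.Basic

/-!
Flat deformations of formally smooth algebras over Artinian augmented algebras are trivial.
-/

set_option autoImplicit false

universe u

open TensorProduct

namespace Groth.Agent.TrivDef

theorem eq_top_of_sup_smul_top {A M : Type u} [CommRing A] [AddCommGroup M] [Module A M]
    (m : Ideal A) (hm : IsNilpotent m) (N : Submodule A M) (h : N ⊔ m • ⊤ = ⊤) : N = ⊤ := by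
  obtain ⟨n, hn⟩ := hm
  have : ∀ i : ℕ, N ⊔ m ^ i • ⊤ = ⊤ := by
    intro i
    induction i with
    | zero => simp
    | succ i ih =>
      rw [eq_top_iff] at ih ⊢
      refine ih.trans (sup_le le_sup_left ?_)
      calc m ^ i • (⊤ : Submodule A M) = m ^ i • (N ⊔ m • ⊤) := by rw [h]
        _ = m ^ i • N ⊔ m ^ (i + 1) • ⊤ := by rw [Submodule.smul_sup, pow_succ, Submodule.mul_smul]
        _ ≤ N ⊔ m ^ (i + 1) • ⊤ := sup_le_sup_right Submodule.smul_le_right _
  have := this n
  rwa [hn, Ideal.zero_eq_bot, Submodule.bot_smul, sup_bot_eq] at this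

theorem exists_trivialization {k A B B' : Type u} [Field k] [CommRing A] [IsLocalRing A]
    [IsArtinianRing A] [Algebra k A] [CommRing B] [Algebra k B] [Algebra.FormallySmooth k B]
    [CommRing B'] [Algebra A B'] [Algebra k B'] [IsScalarTower k A B'] [Module.Flat A B']
    (e : A →ₐ[k] k) (ρ : B' →ₐ[k] B) (hρ : Function.Surjective ρ)
    (hker : RingHom.ker ρ = (RingHom.ker e).map (algebraMap A B')) :
    ∃ θ : A ⊗[k] B ≃ₐ[A] B', ∀ b, ρ (θ (1 ⊗ₜ b)) = b := by
  set m : Ideal A := RingHom.ker e with hmdef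
  have hm : IsNilpotent m := by
    obtain ⟨n, hn⟩ := IsArtinianRing.isNilpotent_jacobson_bot (R := A)
    refine ⟨n, ?_⟩
    rw [IsLocalRing.jacobson_eq_maximalIdeal ⊥ bot_ne_top] at hn
    exact eq_bot_iff.2 ((Ideal.pow_right_mono (IsLocalRing.le_maximalIdeal (RingHom.ker_ne_top _)) n).trans hn.le)
  obtain ⟨n, hn⟩ := hm
  have hnil : IsNilpotent (RingHom.ker (ρ : B' →+* B)) :=
    ⟨n, by rw [show RingHom.ker (ρ : B' →+* B) = m.map (algebraMap A B') from hker, ← Ideal.map_pow, hn,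
      Ideal.zero_eq_bot, Ideal.map_bot]; rfl⟩
  let s : B →ₐ[k] B' := Algebra.FormallySmooth.liftOfSurjective (AlgHom.id k B) ρ hρ hnil
  have hs : ∀ b, ρ (s b) = b := Algebra.FormallySmooth.liftOfSurjective_apply _ ρ hρ hnil
  let θ : A ⊗[k] B →ₐ[A] B' :=
    Algebra.TensorProduct.lift (Algebra.ofId A B') s (fun _ _ => Commute.all _ _)
  have hθ : ∀ a b, θ (a ⊗ₜ b) = algebraMap A B' a * s b := fun a b =>
    Algebra.TensorProduct.lift_tmul _ _ _ a b
  have hρA : ∀ a, ρ (algebraMap A B' a) = algebraMap k B (e a) := fun a => by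
    have h1 : a - algebraMap k A (e a) ∈ m := by simp [m]
    have h2 : algebraMap A B' (a - algebraMap k A (e a)) ∈ RingHom.ker ρ :=
      hker ▸ Ideal.mem_map_of_mem _ h1
    rw [RingHom.mem_ker, map_sub, map_sub, sub_eq_zero] at h2
    rw [h2, ← IsScalarTower.algebraMap_apply k A B', AlgHom.commutes]
  have hcomp : ∀ z, z - (1 : A) ⊗ₜ[k] ρ (θ z) ∈ m.map (algebraMap A (A ⊗[k] B)) := by
    intro z
    induction z using TensorProduct.induction_on with
    | zero => simp
    | add x y hx hy =>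
      simp only [map_add, tmul_add, add_sub_add_comm]
      exact add_mem hx hy
    | tmul a b =>
      rw [hθ, map_mul, hρA, hs, ← Algebra.smul_def, TensorProduct.tmul_smul, TensorProduct.smul_tmul',
        ← sub_tmul, show (a - e a • (1 : A)) ⊗ₜ[k] b =
          algebraMap A (A ⊗[k] B) (a - e a • (1 : A)) * ((1 : A) ⊗ₜ b) by simp]
      exact Ideal.mul_mem_right _ _ (Ideal.mem_map_of_mem _ (by simp [m]))
  have hsurj : Function.Surjective θ := by
    intro y
    suffices LinearMap.range θ.toLinearMap = ⊤ from LinearMap.range_eq_top.1 this y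
    refine eq_top_of_sup_smul_top m ⟨n, hn⟩ _ (eq_top_iff.2 fun y _ => ?_)
    refine Submodule.mem_sup.2 ⟨θ ((1 : A) ⊗ₜ ρ y), (⟨(1 : A) ⊗ₜ[k] ρ y, rfl⟩ : θ ((1 : A) ⊗ₜ[k] ρ y) ∈ LinearMap.range θ.toLinearMap), y - θ ((1 : A) ⊗ₜ ρ y), ?_, add_sub_cancel _ _⟩
    rw [Ideal.smul_top_eq_map]
    change _ ∈ m.map (algebraMap A B')
    rw [← hker, RingHom.mem_ker, map_sub, hθ, map_one, one_mul, hs, sub_self]
  have hinj : Function.Injective θ := by
    let I : Ideal (A ⊗[k] B) := RingHom.ker θ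
    have : Module.Flat A ((A ⊗[k] B) ⧸ I) :=
      Module.Flat.of_linearEquiv (Ideal.quotientKerAlgEquivOfSurjective hsurj).toLinearEquiv
    have : I = ⊥ := EmbDef.eq_of_flat_quotient m ⟨n, hn⟩ bot_le (by
      rw [bot_sup_eq]
      intro z hz
      have := hcomp z
      rwa [RingHom.mem_ker.1 hz, map_zero, tmul_zero, sub_zero] at this)
    exact (RingHom.injective_iff_ker_eq_bot _).2 this
  exact ⟨AlgEquiv.ofBijective θ ⟨hinj, hsurj⟩, fun b => by simp [hθ, hs]⟩

end Groth.Agent.TrivDef
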