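import Groth.Agent.Lib.TrivDef.Basic
import Groth.Agent.Lib.RegSmooth17.Basic
import Mathlib.AlgebraicGeometry.Morphisms.Affine
import Mathlib.AlgebraicGeometry.Morphisms.Flat
import Mathlib.AlgebraicGeometry.Morphisms.FiniteType
import Mathlib.RingTheory.Smooth.Locus

/-!
Flat deformations of regular affine schemes of finite type over a perfect field are trivial.
-/

set_option autoImplicit false
set_option linter.style.haveILetI false

universe u

open CategoryTheory Limits AlgebraicGeometry TensorProduct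

namespace Groth.Agent.TrivDef

theorem formallySmooth_of_regular {k B : Type u} [Field k] [PerfectField k] [CommRing B] [Algebra k B]
    [Algebra.FiniteType k B]
    (h : ∀ q : PrimeSpectrum B, IsRegularLocalRing (Localization.AtPrime q.asIdeal)) :
    Algebra.FormallySmooth k B := by
  have : Algebra.FinitePresentation k B := Algebra.FinitePresentation.of_finiteType.1 inferInstance
  exact Algebra.smoothLocus_eq_univ_iff.1 (Set.eq_univ_of_forall fun q => by
    have := h q
    have : Algebra.EssFiniteType k q.asIdeal.ResidueField :=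
      Algebra.EssFiniteType.comp k B q.asIdeal.ResidueField
    exact RegSmooth17.isSmoothAt_of_isRegularLocalRing k B q.asIdeal)

theorem exists_iso {k A : Type u} [Field k] [PerfectField k] [CommRing A] [IsLocalRing A]
    [IsArtinianRing A] [Algebra k A] (e : A →ₐ[k] k) {B B' : Type u} [CommRing B] [CommRing B']
    (φ : k →+* B) (hφ : φ.FiniteType)
    (hreg : ∀ q : PrimeSpectrum B, IsRegularLocalRing (Localization.AtPrime q.asIdeal))
    (ψ : A →+* B') (hψ : ψ.Flat) (i : B' →+* B)
    (hpo : IsPushout (CommRingCat.ofHom ψ) (CommRingCat.ofHom e.toRingHom) (CommRingCat.ofHom i)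
      (CommRingCat.ofHom φ)) :
    ∃ j : Spec (CommRingCat.of B') ≅
        Limits.pullback (Spec.map (CommRingCat.ofHom φ)) (Spec.map (CommRingCat.ofHom (algebraMap k A))),
      j.hom ≫ Limits.pullback.snd _ _ = Spec.map (CommRingCat.ofHom ψ) := by
  algebraize [φ, ψ]
  letI : Algebra k B' := (ψ.comp (algebraMap k A)).toAlgebra
  haveI : IsScalarTower k A B' := IsScalarTower.of_algebraMap_eq fun _ => rfl
  haveI : Algebra.FiniteType k B := hφ
  haveI : Module.Flat A B' := hψ
  haveI := formallySmooth_of_regular (k := k) hreg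
  have hsqc : i.comp ψ = φ.comp e.toRingHom := congrArg CommRingCat.Hom.hom hpo.w
  let ρ : B' →ₐ[k] B :=
    { i with
      commutes' := fun c => by
        change i (ψ (algebraMap k A c)) = φ c
        rw [← RingHom.comp_apply i, hsqc, RingHom.comp_apply]
        simp }
  have hIle : (RingHom.ker e).map ψ ≤ RingHom.ker i := by
    rw [Ideal.map_le_iff_le_comap]
    intro a ha
    change i (ψ a) = 0
    rw [← RingHom.comp_apply i, hsqc, RingHom.comp_apply]
    simp [RingHom.mem_ker.1 ha]
  let Q := B' ⧸ (RingHom.ker e).map ψ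
  let q₁ : B' →+* Q := Ideal.Quotient.mk _
  let q₂ : k →+* Q := q₁.comp (ψ.comp (algebraMap k A))
  have hw : q₁.comp ψ = q₂.comp e.toRingHom := RingHom.ext fun a => by
    refine Ideal.Quotient.eq.2 ?_
    rw [RingHom.comp_apply, ← map_sub]
    exact Ideal.mem_map_of_mem _ (by simp)
  let δ : B →+* Q := (hpo.desc (CommRingCat.ofHom q₁) (CommRingCat.ofHom q₂) (CommRingCat.hom_ext hw)).hom
  have hδi : δ.comp i = q₁ := congrArg CommRingCat.Hom.hom (hpo.inl_desc (CommRingCat.ofHom q₁)
    (CommRingCat.ofHom q₂) (CommRingCat.hom_ext hw))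
  have hδφ : δ.comp φ = q₂ := congrArg CommRingCat.Hom.hom (hpo.inr_desc (CommRingCat.ofHom q₁)
    (CommRingCat.ofHom q₂) (CommRingCat.hom_ext hw))
  let ι : Q →+* B := Ideal.Quotient.lift _ i hIle
  have hιδ : ι.comp δ = RingHom.id B := by
    suffices CommRingCat.ofHom (ι.comp δ) = CommRingCat.ofHom (RingHom.id B) from
      congrArg CommRingCat.Hom.hom this
    refine hpo.hom_ext ?_ ?_
    · refine CommRingCat.hom_ext ?_
      change (ι.comp δ).comp i = i
      rw [RingHom.comp_assoc, hδi]
      rfl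
    · refine CommRingCat.hom_ext ?_
      change (ι.comp δ).comp φ = φ
      rw [RingHom.comp_assoc, hδφ]
      refine RingHom.ext fun c => ?_
      change i (ψ (algebraMap k A c)) = φ c
      exact ρ.commutes c
  have hρ : Function.Surjective ρ := fun b => by
    obtain ⟨x, hx⟩ := Ideal.Quotient.mk_surjective (δ b)
    refine ⟨x, ?_⟩
    have := congrArg ι hx
    rw [← RingHom.comp_apply ι δ, hιδ] at this
    exact this
  have hker : RingHom.ker ρ = (RingHom.ker e).map (algebraMap A B') := le_antisymm (fun x hx => by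
    have : δ (i x) = 0 := by rw [show i x = 0 from hx, map_zero]
    rw [← RingHom.comp_apply, hδi] at this
    exact Ideal.Quotient.eq_zero_iff_mem.1 this) hIle
  obtain ⟨θ, -⟩ := exists_trivialization e ρ hρ hker
  refine ⟨Scheme.Spec.mapIso θ.toRingEquiv.toCommRingCatIso.op ≪≫ (pullbackSpecIso k A B).symm ≪≫
    pullbackSymmetry _ _, ?_⟩
  simp only [Iso.trans_hom, Iso.symm_hom, Category.assoc, pullbackSymmetry_hom_comp_snd,
    pullbackSpecIso_inv_fst]
  change Spec.map _ ≫ Spec.map _ = _
  rw [← Spec.map_comp]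
  congr 1
  refine CommRingCat.hom_ext (RingHom.ext fun a => ?_)
  exact θ.commutes a

/-- The scheme form, for an affine total space. -/
theorem exists_iso_scheme {k : Type u} [Field k] [PerfectField k] (X : Scheme.{u})
    (hX : X ⟶ Spec (CommRingCat.of k)) [IsAffine X] [LocallyOfFiniteType hX]
    (hreg : ∀ x : X, IsRegularLocalRing (X.presheaf.stalk x))
    (A : Type u) [CommRing A] [IsLocalRing A] [IsArtinianRing A] [Algebra k A] (e : A →ₐ[k] k)
    (X' : Scheme.{u}) [IsAffine X'] (g : X' ⟶ Spec (CommRingCat.of A)) [Flat g] (i : X ⟶ X')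
    (hsq : IsPullback i hX g (Spec.map (CommRingCat.ofHom e.toRingHom))) :
    ∃ φ : X' ≅ Limits.pullback hX (Spec.map (CommRingCat.ofHom (algebraMap k A))),
      φ.hom ≫ Limits.pullback.snd hX (Spec.map (CommRingCat.ofHom (algebraMap k A))) = g := by
  obtain ⟨φ, hφ⟩ := Spec.map_surjective (X.isoSpec.inv ≫ hX)
  obtain ⟨ψ, hψ⟩ := Spec.map_surjective (X'.isoSpec.inv ≫ g)
  have hi : Spec.map i.appTop = X.isoSpec.inv ≫ i ≫ X'.isoSpec.hom := by
    rw [← Scheme.isoSpec_hom_naturality, Iso.inv_hom_id_assoc]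
  have hsq' : IsPullback (Spec.map i.appTop) (Spec.map φ) (Spec.map ψ)
      (Spec.map (CommRingCat.ofHom e.toRingHom)) := by
    refine IsPullback.of_iso hsq X.isoSpec X'.isoSpec (Iso.refl _) (Iso.refl _) ?_ ?_ ?_ (by simp)
    · rw [hi, Iso.hom_inv_id_assoc]
    · simp [hφ]
    · simp [hψ]
  have hpo : IsPushout ψ (CommRingCat.ofHom e.toRingHom) i.appTop φ :=
    (show IsPullback i.appTop.op φ.op ψ.op (CommRingCat.ofHom e.toRingHom).op from
      IsPullback.of_map_of_faithful Scheme.Spec hsq').unop.flip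
  have hflat : ψ.hom.Flat := (HasRingHomProperty.Spec_iff (P := @Flat)).1 (hψ ▸ inferInstance)
  have hft : φ.hom.FiniteType :=
    (HasRingHomProperty.Spec_iff (P := @LocallyOfFiniteType)).1 (hφ ▸ inferInstance)
  have hreg' : ∀ q : PrimeSpectrum Γ(X, ⊤), IsRegularLocalRing (Localization.AtPrime q.asIdeal) := by
    intro q
    let x : Spec Γ(X, ⊤) := q
    have := hreg (X.isoSpec.inv x)
    have h1 : IsRegularLocalRing ((structurePresheafInCommRingCat Γ(X, ⊤)).stalk x) :=
      IsRegularLocalRing.of_ringEquiv (asIso (X.isoSpec.inv.stalkMap x)).commRingCatIsoToRingEquiv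
    exact IsRegularLocalRing.of_ringEquiv (StructureSheaf.stalkIso Γ(X, ⊤) x).symm.toRingEquiv
  obtain ⟨j, hj⟩ := exists_iso e φ.hom hft hreg' ψ.hom hflat i.appTop.hom hpo
  let c : Limits.pullback (Spec.map φ) (Spec.map (CommRingCat.ofHom (algebraMap k A))) ≅
      Limits.pullback hX (Spec.map (CommRingCat.ofHom (algebraMap k A))) :=
    asIso (Limits.pullback.map _ _ _ _ X.isoSpec.inv (𝟙 _) (𝟙 _) (by simp [hφ]) (by simp))
  refine ⟨X'.isoSpec ≪≫ j ≪≫ c, ?_⟩
  simp only [Iso.trans_hom, Category.assoc, c, asIso_hom, Limits.pullback.lift_snd, Category.comp_id]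
  erw [hj]
  change X'.isoSpec.hom ≫ Spec.map ψ = g
  rw [hψ, Iso.hom_inv_id_assoc]

end Groth.Agent.TrivDef
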